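import Groth.Agent.SiteBase.Global
import Groth.Agent.OmegaUniv.Universal
import Groth.Agent.S5019
import Groth.Prelude.Def_DeRham2
import Groth.Agent.PCohLib.Induct
import Groth.Agent.QCoh.Support
import Groth.Agent.QCoh.LocFree
import Groth.Agent.ExtPowSh.Loc
import Groth.Agent.OmegaUniv.Unram
import Mathlib.LinearAlgebra.ExteriorPower.Basis

/-!
# Vanishing of hypercohomology from the terms, and of differential forms above the dimension
-/

set_option autoImplicit false
set_option linter.style.haveILetI false
set_option backward.isDefEq.respectTransparency false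
set_option backward.isDefEq.respectTransparency.types false
set_option maxHeartbeats 800000
set_option synthInstance.maxHeartbeats 200000

universe w v u

open CategoryTheory CategoryTheory.Limits AlgebraicGeometry TopologicalSpace Opposite
open CategoryTheory.Pretriangulated

noncomputable section

namespace Groth.Agent.H6DR

open Groth.Agent

section cx

variable {C : Type u} [Category.{v} C] [Abelian C] [HasDerivedCategory.{w} C] (A : DerivedCategory C)

/-- Maps into a bounded complex vanish when they vanish into each term. -/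
theorem eq_zero_of_terms (i a : ℤ) : ∀ (k : ℕ) (F : CochainComplex C ℤ),
    (∀ p : ℤ, p < a ∨ a + k ≤ p → IsZero (F.X p)) →
    (∀ p : ℤ, a ≤ p → p < a + k →
      ∀ φ : A ⟶ ((DerivedCategory.singleFunctor C p).obj (F.X p))⟦i⟧, φ = 0) →
    ∀ φ : A ⟶ (DerivedCategory.Q.obj F)⟦i⟧, φ = 0
  | 0, F, hb, _, φ => by
    have hF : IsZero F := by
      rw [IsZero.iff_id_eq_zero]
      ext p : 1
      exact (hb p (by omega)).eq_of_src _ _
    exact ((shiftFunctor _ i).map_isZero (DerivedCategory.Q.map_isZero hF)).eq_of_tgt _ _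
  | k + 1, F, hb, hv, φ => by
    let b := a + (k : ℤ)
    let S := (HomologicalComplex.single C (ComplexShape.up ℤ) b).obj (F.X b)
    let s : S ⟶ F := HomologicalComplex.mkHomFromSingle (𝟙 (F.X b)) fun p hp => by
      have hp' : b + 1 = p := hp
      exact (hb p (by omega)).eq_of_tgt _ _
    haveI hsm : ∀ p, Mono (s.f p) := fun p => by
      by_cases hp : p = b
      · subst hp
        simp only [s, HomologicalComplex.mkHomFromSingle_f]
        infer_instance
      · exact ⟨fun u v _ => (HomologicalComplex.isZero_single_obj_X (ComplexShape.up ℤ) b (F.X b) p hp).eq_of_tgt u v⟩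
    haveI : Mono s := HomologicalComplex.mono_of_mono_f s hsm
    let T := ShortComplex.mk s (cokernel.π s) (cokernel.condition s)
    have hT : T.ShortExact := { exact := ShortComplex.exact_of_g_is_cokernel _ (cokernelIsCokernel s) }
    have heq : ∀ p, ((T.map (HomologicalComplex.eval C (ComplexShape.up ℤ) p))).ShortExact :=
      fun p => hT.map_of_exact (HomologicalComplex.eval C (ComplexShape.up ℤ) p)
    have hq : ∀ p, p ≠ b → IsIso ((cokernel.π s).f p) := fun p hp =>
      (heq p).isIso_g_iff.mpr (HomologicalComplex.isZero_single_obj_X (ComplexShape.up ℤ) b (F.X b) p hp)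
    have hqb : IsZero ((cokernel s).X b) := by
      have he : IsIso (s.f b) := by
        simp only [s, HomologicalComplex.mkHomFromSingle_f]
        infer_instance
      exact (heq b).isIso_f_iff.mp he
    have hz : ∀ φ : A ⟶ (DerivedCategory.Q.obj (cokernel s))⟦i⟧, φ = 0 := by
      refine eq_zero_of_terms i a k (cokernel s) (fun p hp => ?_) (fun p hp hp' ψ => ?_)
      · by_cases hpb : p = b
        · exact hpb ▸ hqb
        · haveI := hq p hpb
          exact (hb p (by omega)).of_iso (asIso ((cokernel.π s).f p)).symm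
      · haveI := hq p (by omega)
        let e := ((DerivedCategory.singleFunctor C p) ⋙ shiftFunctor _ i).mapIso (asIso ((cokernel.π s).f p))
        exact (cancel_mono e.inv).1 ((hv p hp (by omega) (ψ ≫ e.inv)).trans zero_comp.symm)
    have hd := Triangle.shift_distinguished _ (DerivedCategory.triangleOfSES_distinguished hT) i
    obtain ⟨g, hg⟩ := Triangle.coyoneda_exact₂ _ hd φ (hz _)
    have hs : ∀ ψ : A ⟶ (DerivedCategory.Q.obj S)⟦i⟧, ψ = 0 := fun ψ => by
      let e := (shiftFunctor (DerivedCategory C) i).mapIso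
        (((DerivedCategory.singleFunctorIsoCompQ C b).app (F.X b)))
      exact (cancel_mono e.inv).1 ((hv b (by omega) (by omega) (ψ ≫ e.inv)).trans zero_comp.symm)
    rw [hg, hs g, zero_comp]

/-- Maps between shifted objects of the heart vanish where the `Ext` groups do. -/
theorem eq_zero_single [HasExt.{v} C] (P M : C) (p i : ℤ)
    (h : ∀ n : ℕ, (n : ℤ) = i - p → Subsingleton (Abelian.Ext P M n))
    (φ : (DerivedCategory.singleFunctor C 0).obj P ⟶ ((DerivedCategory.singleFunctor C p).obj M)⟦i⟧) :
    φ = 0 := by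
  let e : ((DerivedCategory.singleFunctor C p).obj M)⟦i⟧ ≅
      ((DerivedCategory.singleFunctor C 0).obj M)⟦i - p⟧ :=
    (shiftFunctor (DerivedCategory C) i).mapIso
        ((((DerivedCategory.singleFunctors C).shiftIso (-p) p 0 (by omega)).app M).symm) ≪≫
      ((shiftFunctorAdd' (DerivedCategory C) (-p) i (i - p) (by omega)).app _).symm
  suffices h' : ∀ r : ℤ, r = i - p → ∀ ψ : (DerivedCategory.singleFunctor C 0).obj P ⟶
      ((DerivedCategory.singleFunctor C 0).obj M)⟦r⟧, ψ = 0 from
    (cancel_mono e.hom).1 ((h' _ rfl (φ ≫ e.hom)).trans zero_comp.symm)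
  intro r hr ψ
  rcases lt_or_ge r 0 with hn | hn
  · haveI : (((DerivedCategory.singleFunctor C 0).obj M)⟦r⟧).IsGE (-r) := by
      exact DerivedCategory.TStructure.t.isGE_shift _ 0 r (-r) (by omega)
    exact DerivedCategory.TStructure.t.zero ψ 0 (-r) (by omega)
  · obtain ⟨n, hn⟩ := Int.eq_ofNat_of_zero_le hn
    subst hn
    haveI := h n hr
    haveI : Subsingleton (ShiftedHom ((DerivedCategory.singleFunctor C 0).obj P)
        ((DerivedCategory.singleFunctor C 0).obj M) (n : ℤ)) := Abelian.Ext.homEquiv.symm.subsingleton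
    exact this.elim _ _

end cx

section dr

variable {X S : Scheme.{u}} {f : X ⟶ S} {Ω' : X.Modules} {δ : OmegaSh.Der f Ω'}

/-- Hypercohomology vanishes where the cohomology of the terms does. -/
theorem subsingleton_HdR (D : DeRhamSh.Cx f Ω' δ)
    [HasDerivedCategory.{u} (Sheaf (Opens.grothendieckTopology X) AddCommGrpCat.{u})] (N : ℕ)
    (hN : ∀ p : ℕ, N < p → IsZero (D.term p)) (i : ℤ)
    (h : ∀ p q : ℕ, p ≤ N → (p : ℤ) + q = i → Subsingleton (Coh.HH X (D.term p) q)) :
    Subsingleton (DeRhamSh.HdR D i) := by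
  refine subsingleton_of_forall_eq 0 fun φ => ?_
  refine eq_zero_of_terms _ i 0 (N + 1) D.KZ (fun p hp => ?_) (fun p hp hp' ψ => ?_) φ
  · rcases hp with hp | hp
    · exact D.K.isZero_extend_X _ p fun q hq => by
        have : (q : ℤ) = p := hq
        omega
    · obtain ⟨q, rfl⟩ := Int.eq_ofNat_of_zero_le (show 0 ≤ p by omega)
      exact (((QCoh.toAbFunctor X).map_isZero (hN q (by omega))).of_iso (D.iso q)).of_iso
        (D.K.extendXIso ComplexShape.embeddingUpNat rfl)
  · obtain ⟨q, rfl⟩ := Int.eq_ofNat_of_zero_le hp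
    let e := ((DerivedCategory.singleFunctor _ (q : ℤ)) ⋙ shiftFunctor _ i).mapIso
      (D.K.extendXIso ComplexShape.embeddingUpNat (show ComplexShape.embeddingUpNat.f q = (q : ℤ) from rfl) ≪≫ D.iso q)
    have h0 : ψ ≫ e.hom = 0 := by
      refine eq_zero_single _ (Coh.toAb (D.term q)) (q : ℤ) i (fun n hn => ?_) _
      haveI := h q n (by omega) (by omega)
      exact (SiteBase.huTerminalEquiv (Limits.isTerminalTop) (Coh.toAb (D.term q)) n).toEquiv.subsingleton
    exact (cancel_mono e.hom).1 (h0.trans zero_comp.symm)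

/-- Exterior powers of the differentials of a smooth morphism vanish above the dimension of the source. -/
theorem isZero_term [QuasiSeparated f] [Smooth f] (D : DeRhamSh.OmegaCx f) (hqc : ∀ p, Coh.IsQCoh (D.term p))
    (n : ℕ) (hn : topologicalKrullDim X ≤ n) (p : ℕ) (hp : n < p) : IsZero (D.term p) := by
  classical
  choose U m hxU hfree hdim using fun x : X =>
    S5019.result f (Omega.sheaf f) (OmegaSh.dOmega f) (OmegaUniv.isUniversal_dOmega f) x
  choose A hA hxA hle using fun x : X => exists_isAffineOpen_mem_and_subset (hxU x)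
  refine QCoh.isZero_of_cover (hqc p) A hA (fun x => ⟨x, hxA x⟩) fun x => ?_
  obtain ⟨e⟩ := hfree x
  obtain ⟨l⟩ := QCoh.free_sections (hA x) (hle x) e
  have hm : m x ≤ n := by
    have h1 : FlatMor.fibreDimAt f x ≤ topologicalKrullDim X :=
      (iInf_le _ ⟨⊤, trivial⟩).trans ((Topology.IsInducing.subtypeVal.topologicalKrullDim_le).trans
        ((f.fiberι (f.base x)).isEmbedding.isInducing.topologicalKrullDim_le))
    rw [hdim x] at h1
    exact_mod_cast h1.trans hn
  haveI : Subsingleton ↥(⋀[Γ(X, A x)]^p Γ(Omega.sheaf f, A x)) := by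
    let b := (Module.Basis.ofRepr l).reindex Equiv.ulift.{u}
    haveI : IsEmpty (Set.powersetCard (Fin (m x)) p) := ⟨fun s => by
      have h2 := Finset.card_le_univ (s.1)
      have h3 : s.1.card = p := s.2
      simp at h2
      omega⟩
    exact (Module.Basis.exteriorPower p b).repr.toEquiv.subsingleton
  exact (D.loc p ⟨A x, hA x⟩).toEquiv.subsingleton

/-- The terms of a de Rham complex of a morphism are quasi-coherent. -/
theorem isQCoh_term [QuasiSeparated f] (D : DeRhamSh.OmegaCx f) (p : ℕ) : Coh.IsQCoh (D.term p) := by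
  obtain ⟨e⟩ := ExtPowSh.nonempty_iso (ExtPowSh.isExtPow _ p (OmegaUniv.isQCoh_omega f)) (D.isExtPow p)
  exact (QCoh.isQCoh_iff_iso e).1 (ExtPowSh.isQCoh _ p (OmegaUniv.isQCoh_omega f))

end dr

end Groth.Agent.H6DR
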