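import Mathlib.Algebra.Homology.DerivedCategory.KInjective
import Mathlib.Algebra.Homology.DerivedCategory.Ext.ExactSequences
import Mathlib.Algebra.Homology.HomotopyCategory.HomComplexSingle
import Mathlib.Algebra.Homology.HomotopyCategory.HomComplexCohomology
import Mathlib.Algebra.Homology.ModelCategory.Injective
import Groth.Agent.TriCat.KInjCriterion
import Groth.Agent.H6DR.Vanish

/-!
# Complexes of acyclic objects compute maps in the derived category
-/

set_option autoImplicit false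
set_option linter.style.haveILetI false
set_option backward.isDefEq.respectTransparency false
set_option backward.isDefEq.respectTransparency.types false

universe w v u

open CategoryTheory CategoryTheory.Limits CochainComplex.HomComplex

noncomputable section

namespace Groth.Agent.H6DR.Acy

open Groth.Agent

variable {C : Type u} [Category.{v} C] [Abelian C] (P : C)

/-- The maps from `P` killed by the differential. -/
def Z (F : CochainComplex C ℤ) (i : ℤ) : AddSubgroup (P ⟶ F.X i) :=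
  (Preadditive.rightComp P (F.d i (i + 1))).ker

theorem Z_prop {F : CochainComplex C ℤ} {i : ℤ} (t : Z P F i) : t.1 ≫ F.d i (i + 1) = 0 := t.2

/-- Functoriality of `Z`. -/
def Zmap {F G : CochainComplex C ℤ} (φ : F ⟶ G) (i : ℤ) (t : Z P F i) : Z P G i :=
  ⟨t.1 ≫ φ.f i, show (t.1 ≫ φ.f i) ≫ G.d i (i + 1) = 0 by
    rw [Category.assoc, φ.comm, reassoc_of% (Z_prop P t), zero_comp]⟩

/-- The cocycle of a map killed by the differential. -/
abbrev cocy {F : CochainComplex C ℤ} {i : ℤ} (t : Z P F i) :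
    Cocycle ((CochainComplex.singleFunctor C 0).obj P) F i :=
  Cocycle.fromSingleMk t.1 (zero_add i) (i + 1) rfl (Z_prop P t)

variable [HasDerivedCategory.{w} C]

/-- The class in the derived category. -/
def classMap (F : CochainComplex C ℤ) (i : ℤ) :
    Z P F i →+ (DerivedCategory.Q.obj ((CochainComplex.singleFunctor C 0).obj P) ⟶
      (DerivedCategory.Q.obj F)⟦i⟧) :=
  AddMonoidHom.mk' (fun t => DerivedCategory.Q.map (Cocycle.equivHomShift.symm (cocy P t)) ≫
    (DerivedCategory.Q.commShiftIso i).hom.app F) fun a b => by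
    rw [← Preadditive.add_comp, ← Functor.map_add, ← map_add, ← Cocycle.fromSingleMk_add]
    rfl

theorem classMap_map {F G : CochainComplex C ℤ} (φ : F ⟶ G) (i : ℤ) (t : Z P F i) :
    classMap P G i (Zmap P φ i t) = classMap P F i t ≫ (DerivedCategory.Q.map φ)⟦i⟧' := by
  simp only [classMap, AddMonoidHom.mk'_apply, Zmap]
  rw [cocy, Cocycle.fromSingleMk_postcomp t.1 (zero_add i) (i + 1) rfl (Z_prop P t) φ,
    Cocycle.equivHomShift_symm_postcomp, Functor.map_comp, Category.assoc, Category.assoc]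
  exact congrArg _ ((DerivedCategory.Q.commShiftIso i).hom.naturality φ)

theorem classMap_eq {F : CochainComplex C ℤ} (i : ℤ) (t : Z P F i) :
    classMap P F i t = (DerivedCategory.quotientCompQhIso _).inv.app _ ≫
      DerivedCategory.Qh.map (CohomologyClass.toHom (.mk (cocy P t))) ≫
        (DerivedCategory.quotientCompQhIso _).hom.app (F⟦i⟧) ≫
          (DerivedCategory.Q.commShiftIso i).hom.app F := by
  simp only [classMap, AddMonoidHom.mk'_apply, CohomologyClass.toHom_mk]
  have h := (DerivedCategory.quotientCompQhIso C).hom.naturality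
    (Cocycle.equivHomShift.symm (cocy P t))
  dsimp at h
  rw [reassoc_of% h, Iso.inv_hom_id_app_assoc]

theorem classMap_surjective_of_kinj (I : CochainComplex C ℤ) [I.IsKInjective] (i : ℤ) :
    Function.Surjective (classMap P I i) := by
  intro φ
  obtain ⟨g, hg⟩ := (CochainComplex.IsKInjective.Qh_map_bijective
    ((HomotopyCategory.quotient _ _).obj ((CochainComplex.singleFunctor C 0).obj P)) (I⟦i⟧)).2
      ((DerivedCategory.quotientCompQhIso _).hom.app _ ≫ φ ≫
        (DerivedCategory.Q.commShiftIso i).inv.app I ≫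
          (DerivedCategory.quotientCompQhIso _).inv.app (I⟦i⟧))
  obtain ⟨c, rfl⟩ := (CohomologyClass.toHom_bijective _ I i).2 g
  obtain ⟨z, rfl⟩ := c.mk_surjective
  obtain ⟨f, hf, rfl⟩ := Cocycle.fromSingleMk_surjective z i (zero_add i) (i + 1) rfl
  exact ⟨⟨f, hf⟩, by rw [classMap_eq, hg]; simp⟩

theorem exists_of_classMap_eq_zero_of_kinj (I : CochainComplex C ℤ) [I.IsKInjective] (i : ℤ)
    (t : Z P I i) (h : classMap P I i t = 0) : ∃ w : P ⟶ I.X (i - 1), w ≫ I.d (i - 1) i = t.1 := by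
  have hc : cocy P t ∈ coboundaries _ I i := by
    rw [← CohomologyClass.toHom_mk_eq_zero_iff]
    refine (CochainComplex.IsKInjective.Qh_map_bijective _ (I⟦i⟧)).1 ?_
    rw [Functor.map_zero]
    rw [classMap_eq, Preadditive.IsIso.comp_left_eq_zero, Preadditive.IsIso.comp_right_eq_zero] at h
    exact h
  obtain ⟨β, hβ⟩ := (mem_coboundaries_iff _ (i - 1) (by omega)).1 hc
  obtain ⟨w, rfl⟩ := Cochain.fromSingleMk_surjective β (i - 1) (by omega)
  refine ⟨w, ?_⟩
  rw [Cochain.δ_fromSingleMk _ _ _ i (by omega)] at hβ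
  exact (Cochain.fromSingleEquiv (zero_add i)).symm.injective hβ

theorem classMap_eq_zero_of_kinj (I : CochainComplex C ℤ) [I.IsKInjective] (i : ℤ)
    (t : Z P I i) (w : P ⟶ I.X (i - 1)) (hw : w ≫ I.d (i - 1) i = t.1) : classMap P I i t = 0 := by
  have h : CohomologyClass.toHom (.mk (cocy P t)) = 0 := by
    rw [CohomologyClass.toHom_mk_eq_zero_iff, mem_coboundaries_iff _ (i - 1) (by omega)]
    refine ⟨Cochain.fromSingleMk w (show 0 + (i - 1) = i - 1 by omega), ?_⟩
    rw [Cochain.δ_fromSingleMk _ _ _ i (by omega), hw]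
    rfl
  rw [classMap_eq, h, Functor.map_zero, zero_comp, comp_zero]

variable [HasExt.{v} C]

omit [HasDerivedCategory C] in
/-- Maps from `P` lift along short exact sequences with `Ext¹`-acyclic kernel. -/
theorem exists_lift {S : ShortComplex C} (hS : S.ShortExact) (h : Subsingleton (Abelian.Ext P S.X₁ 1))
    (t : P ⟶ S.X₃) : ∃ s : P ⟶ S.X₂, s ≫ S.g = t := by
  obtain ⟨x, hx⟩ := Abelian.Ext.covariant_sequence_exact₃ P hS (Abelian.Ext.mk₀ t) (zero_add 1)
    (Subsingleton.elim _ _)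
  obtain ⟨s, rfl⟩ := (Abelian.Ext.homEquiv₀.symm).surjective x
  exact ⟨s, Abelian.Ext.homEquiv₀.symm.injective (by simpa using hx)⟩

omit [HasDerivedCategory C] in
/-- Exactness of `Hom(P, ·)` on bounded below acyclic complexes with acyclic terms. -/
theorem exists_of_acyclic (E : CochainComplex C ℤ) (a : ℤ) [E.IsStrictlyGE a] (hE : E.Acyclic)
    (hacy : ∀ p n, 0 < n → Subsingleton (Abelian.Ext P (E.X p) n)) (i : ℤ) (t : P ⟶ E.X i)
    (ht : t ≫ E.d i (i + 1) = 0) : ∃ u : P ⟶ E.X (i - 1), u ≫ E.d (i - 1) i = t := by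
  have hepi : ∀ k l, (ComplexShape.up ℤ).prev l = k → Epi (E.toCycles k l) := by
    rintro k l rfl
    exact (hE l).epi_toCycles
  have hex : ∀ k l (hkl : k + 1 = l), (ShortComplex.mk (E.iCycles k) (E.toCycles k l) (by
      rw [← cancel_mono (E.iCycles l)]; simp)).Exact := fun k l hkl =>
    ShortComplex.exact_of_f_is_kernel _ (KernelFork.IsLimit.ofι' _ _ fun {A} t ht =>
      ⟨E.liftCycles t l (by simp [hkl]) (by
        rw [← E.toCycles_i k l]; exact (Category.assoc _ _ _).symm.trans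
          ((congrArg (· ≫ E.iCycles l) ht).trans zero_comp)), E.liftCycles_i _ _ _ _⟩)
  have hses : ∀ p, ∃ S : ShortComplex C, S.ShortExact ∧ S.X₁ = E.cycles p ∧ S.X₂ = E.X p ∧
      S.X₃ = E.cycles (p + 1) := fun p => by
    haveI := hepi p (p + 1) (by simp)
    exact ⟨_, { exact := hex p (p + 1) rfl :
      (ShortComplex.mk (E.iCycles p) (E.toCycles p (p + 1)) (by
        rw [← cancel_mono (E.iCycles (p + 1))]; simp)).ShortExact }, rfl, rfl, rfl⟩
  have hz : ∀ (k : ℕ) (p : ℤ), p < a + k → ∀ n, 0 < n → Subsingleton (Abelian.Ext P (E.cycles p) n) := by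
    intro k
    induction k with
    | zero =>
      intro p hp n _
      have hz0 : IsZero (E.cycles p) :=
        IsZero.of_mono (E.iCycles p) (E.isZero_of_isStrictlyGE a p (by omega))
      exact subsingleton_of_forall_eq 0 fun x => x.comp_mk₀_id.symm.trans (by
        rw [hz0.eq_of_src (𝟙 _) 0, Abelian.Ext.mk₀_zero, Abelian.Ext.comp_zero])
    | succ k ih =>
      intro p hp n hn
      obtain ⟨S, hS, h1, h2, h3⟩ := hses (p - 1)
      rw [show p - 1 + 1 = p by omega] at h3
      refine subsingleton_of_forall_eq 0 fun x => ?_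
      haveI : Subsingleton (Abelian.Ext P S.X₁ (n + 1)) := h1 ▸ ih (p - 1) (by omega) _ (by omega)
      haveI : Subsingleton (Abelian.Ext P S.X₂ n) := h2 ▸ hacy (p - 1) n hn
      revert x
      rw [← h3]
      intro x
      obtain ⟨y, rfl⟩ := Abelian.Ext.covariant_sequence_exact₃ P hS x rfl (Subsingleton.elim _ _)
      rw [Subsingleton.elim y 0, Abelian.Ext.zero_comp]
  haveI := hepi (i - 1) i (by simp)
  obtain ⟨u, hu⟩ := exists_lift P (S := ShortComplex.mk (E.iCycles (i - 1)) (E.toCycles (i - 1) i) (by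
      rw [← cancel_mono (E.iCycles i)]; simp))
    { exact := hex (i - 1) i (by omega) }
    (hz (i - a).toNat.succ (i - 1) (by omega) 1 one_pos) (E.liftCycles t (i + 1) (by simp) ht)
  refine ⟨u, ?_⟩
  rw [← E.toCycles_i (i - 1) i]
  exact (Category.assoc _ _ _).symm.trans ((congrArg (· ≫ E.iCycles i) hu).trans (E.liftCycles_i _ _ _ _))

variable [EnoughInjectives C] (F : CochainComplex C ℤ) (a : ℤ) [hFa : F.IsStrictlyGE a]
  (hacy : ∀ p n, 0 < n → Subsingleton (Abelian.Ext P (F.X p) n))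

include hacy hFa

/-- A bounded below complex of acyclic objects computes maps in the derived category. -/
theorem classMap_bijective_aux (i : ℤ) :
    (Function.Surjective (classMap P F i)) ∧
      ∀ t : Z P F i, classMap P F i t = 0 ↔ ∃ w : P ⟶ F.X (i - 1), w ≫ F.d (i - 1) i = t.1 := by
  haveI : F.IsStrictlyGE (a - 1 + 1) := by rw [show a - 1 + 1 = a by omega]; infer_instance
  obtain ⟨I, φ, hm, hq, hI, hIa⟩ :=
    CochainComplex.Plus.modelCategoryQuillen.exists_mono_quasiIso_injective F (a - 1) (a - 1 + 1) rfl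
  haveI := hI
  haveI : I.IsKInjective := CochainComplex.isKInjective_of_injective I (a - 1)
  haveI := hm
  haveI := hq
  haveI : IsIso (DerivedCategory.Q.map φ) := inferInstance
  let T := ShortComplex.mk φ (cokernel.π φ) (cokernel.condition φ)
  have hT : T.ShortExact := { exact := ShortComplex.exact_of_g_is_cokernel _ (cokernelIsCokernel φ) }
  have heq : ∀ p, ((T.map (HomologicalComplex.eval C (ComplexShape.up ℤ) p))).ShortExact :=
    fun p => hT.map_of_exact (HomologicalComplex.eval C (ComplexShape.up ℤ) p)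
  have hac : (cokernel φ).Acyclic := (TriCat.quasiIso_iff_acyclic_cokernel φ).1 hq
  haveI : (cokernel φ).IsStrictlyGE (a - 1) := by
    rw [CochainComplex.isStrictlyGE_iff]
    intro p hp
    haveI : Epi ((cokernel.π φ).f p) := (heq p).epi_g
    exact IsZero.of_epi ((cokernel.π φ).f p) (I.isZero_of_isStrictlyGE (a - 1) p hp)
  have hQ : ∀ p n, 0 < n → Subsingleton (Abelian.Ext P ((cokernel φ).X p) n) := fun p n hn => by
    refine subsingleton_of_forall_eq 0 fun x => ?_
    obtain ⟨y, rfl⟩ := Abelian.Ext.covariant_sequence_exact₃ P (heq p) x rfl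
      (@Subsingleton.elim _ (hacy p (n + 1) (by omega)) _ _)
    obtain ⟨m, rfl⟩ := Nat.exists_eq_succ_of_ne_zero hn.ne'
    haveI : Injective (T.map (HomologicalComplex.eval C (ComplexShape.up ℤ) p)).X₂ := hI p
    have hy : y = 0 := Abelian.Ext.eq_zero_of_injective y
    rw [hy, Abelian.Ext.zero_comp]
  have hlift : ∀ p (q : P ⟶ (cokernel φ).X p), ∃ s : P ⟶ I.X p, s ≫ (cokernel.π φ).f p = q :=
    fun p q => exists_lift P (heq p) (hacy p 1 one_pos) q
  have hker : ∀ p (s : P ⟶ I.X p), s ≫ (cokernel.π φ).f p = 0 → ∃ x : P ⟶ F.X p, x ≫ φ.f p = s :=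
    fun p s hs => ⟨(heq p).fIsKernel.lift (KernelFork.ofι s hs), (heq p).fIsKernel.fac _ WalkingParallelPair.zero⟩
  refine ⟨fun ψ => ?_, fun t => ⟨fun h => ?_, ?_⟩⟩
  · obtain ⟨z, hz⟩ := classMap_surjective_of_kinj P I i (ψ ≫ (DerivedCategory.Q.map φ)⟦i⟧')
    obtain ⟨w, hw⟩ := exists_of_acyclic P (cokernel φ) (a - 1) hac hQ i (z.1 ≫ (cokernel.π φ).f i)
      (by rw [Category.assoc, (cokernel.π φ).comm, reassoc_of% (Z_prop P z), zero_comp])
    obtain ⟨s, hs⟩ := hlift (i - 1) w
    obtain ⟨x, hx⟩ := hker i (z.1 - s ≫ I.d (i - 1) i) (by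
      rw [Preadditive.sub_comp, Category.assoc, ← (cokernel.π φ).comm, reassoc_of% hs, hw, sub_self])
    have hxd : x ≫ F.d i (i + 1) = 0 := by
      haveI := (heq i).mono_f
      haveI : Mono (φ.f (i + 1)) := (heq (i + 1)).mono_f
      rw [← cancel_mono (φ.f (i + 1)), Category.assoc, ← φ.comm, reassoc_of% hx, Preadditive.sub_comp,
        Z_prop P z]
      simp
    refine ⟨⟨x, hxd⟩, (cancel_mono ((DerivedCategory.Q.map φ)⟦i⟧')).1 ?_⟩
    rw [← classMap_map, ← hz, ← sub_eq_zero, ← map_sub]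
    refine classMap_eq_zero_of_kinj P I i _ (-s) ?_
    show (-s) ≫ _ = x ≫ φ.f i - z.1
    rw [hx, Preadditive.neg_comp]
    abel
  · have h' : classMap P I i (Zmap P φ i t) = 0 := by rw [classMap_map, h, zero_comp]
    obtain ⟨w, hw⟩ := exists_of_classMap_eq_zero_of_kinj P I i _ h'
    change w ≫ _ = t.1 ≫ φ.f i at hw
    obtain ⟨v, hv⟩ := exists_of_acyclic P (cokernel φ) (a - 1) hac hQ (i - 1) (w ≫ (cokernel.π φ).f (i - 1))
      (by
        rw [show i - 1 + 1 = i by omega, Category.assoc, (cokernel.π φ).comm, reassoc_of% hw,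
          ← HomologicalComplex.comp_f, cokernel.condition]
        simp)
    obtain ⟨s, hs⟩ := hlift (i - 1 - 1) v
    obtain ⟨y, hy⟩ := hker (i - 1) (w - s ≫ I.d (i - 1 - 1) (i - 1)) (by
      rw [Preadditive.sub_comp, Category.assoc, ← (cokernel.π φ).comm, reassoc_of% hs, hv, sub_self])
    refine ⟨y, ?_⟩
    haveI : Mono (φ.f i) := (heq i).mono_f
    rw [← cancel_mono (φ.f i), Category.assoc, ← φ.comm, reassoc_of% hy, Preadditive.sub_comp, hw]
    simp
  · rintro ⟨w, hw⟩
    rw [← cancel_mono ((DerivedCategory.Q.map φ)⟦i⟧'), ← classMap_map, zero_comp]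
    refine classMap_eq_zero_of_kinj P I i _ (w ≫ φ.f (i - 1)) ?_
    show _ = t.1 ≫ φ.f i
    rw [Category.assoc, φ.comm, reassoc_of% hw]

/-- The images of the differentials. -/
def exactB {M : ℕ → Type v} [∀ p, AddCommGroup (M p)] (d : ∀ p, M p →+ M (p + 1)) :
    (n : ℕ) → AddSubgroup (M n)
  | 0 => ⊥
  | m + 1 => (d m).range

omit hacy hFa [HasDerivedCategory C] [EnoughInjectives C] in
theorem subsingleton_ext_of_iso {X Y : C} (i : X ≅ Y) (n : ℕ) (h : Subsingleton (Abelian.Ext P Y n)) :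
    Subsingleton (Abelian.Ext P X n) := by
  refine subsingleton_of_forall_eq 0 fun x => x.comp_mk₀_id.symm.trans ?_
  rw [← i.hom_inv_id, ← Abelian.Ext.mk₀_comp_mk₀, ← Abelian.Ext.comp_assoc x _ _ (add_zero _) (add_zero 0) (by omega),
    Subsingleton.elim (x.comp (Abelian.Ext.mk₀ i.hom) (add_zero _)) 0, Abelian.Ext.zero_comp]

omit hacy hFa in
/-- A complex in natural degrees of acyclic objects: closed elements modulo exact ones. -/
theorem exists_closed_to_hom (K : CochainComplex C ℕ) {M : ℕ → Type v} [∀ p, AddCommGroup (M p)]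
    (ε : ∀ p, (P ⟶ K.X p) ≃+ M p) (d : ∀ p, M p →+ M (p + 1))
    (hε : ∀ p t, ε (p + 1) (t ≫ K.d p (p + 1)) = d p (ε p t))
    (hK : ∀ p r, Subsingleton (Abelian.Ext P (K.X p) (r + 1))) {n : ℕ}
    (Zc : AddSubgroup (M n)) (hZc : ∀ x, x ∈ Zc ↔ d n x = 0) (Bc : AddSubgroup (M n))
    (hBc : Bc = exactB d n) :
    ∃ ξ : Zc →+ ((DerivedCategory.singleFunctor C 0).obj P ⟶
        (DerivedCategory.Q.obj (K.extend ComplexShape.embeddingUpNat))⟦(n : ℤ)⟧),
      Function.Surjective ξ ∧ ∀ x, ξ x = 0 ↔ (x : M n) ∈ Bc := by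
  let G : CochainComplex C ℤ := K.extend ComplexShape.embeddingUpNat
  let j := fun p : ℕ => K.extendXIso ComplexShape.embeddingUpNat (ComplexShape.embeddingUpNat_f p)
  let e : ∀ p : ℕ, (P ⟶ G.X (p : ℤ)) ≃+ M p := fun p => AddEquiv.trans
    { toFun := fun t => t ≫ (j p).hom
      invFun := fun t => t ≫ (j p).inv
      left_inv := fun t => by simp
      right_inv := fun t => by simp
      map_add' := fun _ _ => Preadditive.add_comp _ _ _ _ _ _ } (ε p)
  have he : ∀ (p : ℕ) (t : P ⟶ G.X (p : ℤ)), e (p + 1) (t ≫ G.d (p : ℤ) ((p + 1 : ℕ) : ℤ)) = d p (e p t) :=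
    fun p t => by
      show ε (p + 1) ((t ≫ G.d _ _) ≫ (j (p + 1)).hom) = d p (ε p (t ≫ (j p).hom))
      rw [← hε]
      congr 1
      simp only [G, j, K.extend_d_eq ComplexShape.embeddingUpNat (ComplexShape.embeddingUpNat_f p)
        (ComplexShape.embeddingUpNat_f (p + 1)), Category.assoc, Iso.inv_hom_id, Category.comp_id]
  haveI : CochainComplex.IsStrictlyGE G 0 := by
    rw [CochainComplex.isStrictlyGE_iff]
    exact fun p hp => K.isZero_extend_X _ p fun q hq => by
      have : (q : ℤ) = p := hq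
      omega
  have hacy : ∀ (p : ℤ) (m : ℕ), 0 < m → Subsingleton (Abelian.Ext P (G.X p) m) := fun p m hm => by
    rcases lt_or_ge p 0 with hp | hp
    · refine subsingleton_of_forall_eq 0 fun x => x.comp_mk₀_id.symm.trans ?_
      rw [(CochainComplex.isZero_of_isStrictlyGE G 0 p hp).eq_of_src (𝟙 _) 0, Abelian.Ext.mk₀_zero, Abelian.Ext.comp_zero]
    · obtain ⟨q, rfl⟩ := Int.eq_ofNat_of_zero_le hp
      obtain ⟨r, rfl⟩ := Nat.exists_eq_succ_of_ne_zero hm.ne'
      exact subsingleton_ext_of_iso P (j q) (r + 1) (hK q r)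
  have hB := classMap_bijective_aux P G 0 hacy (n : ℤ)
  have hcl : ∀ t : P ⟶ G.X (n : ℤ), t ≫ G.d (n : ℤ) ((n : ℤ) + 1) = 0 ↔ d n (e n t) = 0 := fun t => by
    rw [← he, AddEquiv.map_eq_zero_iff]
    exact Iff.rfl
  let toZ : Zc →+ Z P G (n : ℤ) :=
    { toFun := fun x => ⟨(e n).symm x.1, (hcl _).2 (by rw [AddEquiv.apply_symm_apply]; exact (hZc _).1 x.2)⟩
      map_zero' := Subtype.ext (map_zero _)
      map_add' := fun a b => Subtype.ext (map_add _ _ _) }
  let fix := (DerivedCategory.singleFunctorIsoCompQ C 0).app P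
  refine ⟨((Preadditive.leftComp _ fix.hom).comp (classMap P G (n : ℤ))).comp toZ, fun ψ => ?_, fun x => ?_⟩
  · obtain ⟨t, ht⟩ := hB.1 (fix.inv ≫ ψ)
    refine ⟨⟨e n t.1, (hZc _).2 ((hcl _).1 t.2)⟩, ?_⟩
    show fix.hom ≫ classMap P G (n : ℤ) (toZ _) = ψ
    rw [show toZ ⟨e n t.1, (hZc _).2 ((hcl _).1 t.2)⟩ = t from Subtype.ext ((e n).symm_apply_apply _), ht,
      Iso.hom_inv_id_assoc]
  · refine Iff.trans (Preadditive.IsIso.comp_left_eq_zero fix.hom _) ((hB.2 (toZ x)).trans ?_)
    subst hBc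
    cases n with
    | zero =>
      show _ ↔ _ ∈ (⊥ : AddSubgroup _)
      rw [AddSubgroup.mem_bot]
      refine ⟨fun ⟨w, hw⟩ => ?_, fun h => ⟨0, by
        show _ = (e 0).symm _
        rw [h, map_zero, zero_comp]⟩⟩
      rw [(CochainComplex.isZero_of_isStrictlyGE G 0 (((0 : ℕ) : ℤ) - 1) (by omega)).eq_of_tgt w 0, zero_comp] at hw
      exact (e 0).symm.injective (hw.symm.trans (map_zero _).symm)
    | succ m =>
      have hm : (((m + 1 : ℕ) : ℤ) - 1) = (m : ℤ) := by omega
      rw [hm]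
      show _ ↔ _ ∈ (d m).range
      refine ⟨fun ⟨w, hw⟩ => ⟨e m w, by rw [← he, hw]; exact (e (m + 1)).apply_symm_apply _⟩,
        fun ⟨y, hy⟩ => ⟨(e m).symm y, (e (m + 1)).injective ?_⟩⟩
      rw [he, AddEquiv.apply_symm_apply, hy]
      exact ((e (m + 1)).apply_symm_apply _).symm

end Groth.Agent.H6DR.Acy
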