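import Groth.Agent.H6DR.Acyclic
import Groth.Agent.Synt29.OmegaAffine
import Groth.Agent.Synt29.DRGen
import Groth.Agent.ExtPowSh.Algebra
import Groth.Agent.SiteBase.Sections
import Groth.Agent.QCoh.CechStd
import Groth.Prelude.Def_DeRham

/-!
# De Rham cohomology of an affine scheme from the complex of global forms
-/

set_option autoImplicit false
set_option linter.style.haveILetI false
set_option backward.isDefEq.respectTransparency false
set_option backward.isDefEq.respectTransparency.types false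
set_option maxHeartbeats 1000000

universe u

open CategoryTheory CategoryTheory.Limits AlgebraicGeometry TopologicalSpace Opposite

noncomputable section

namespace Groth.Agent.H6DR

open Groth.Agent

/-- Post-composition with an isomorphism. -/
def homCongrRight {C : Type*} [Category C] [Preadditive C] (P : C) {X Y : C} (i : X ≅ Y) :
    (P ⟶ X) ≃+ (P ⟶ Y) where
  toFun t := t ≫ i.hom
  invFun t := t ≫ i.inv
  left_inv t := by simp
  right_inv t := by simp
  map_add' _ _ := Preadditive.add_comp _ _ _ _ _ _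

variable (R A : Type u) [CommRing R] [CommRing A] [Algebra R A]

/-- Global functions back to the ring. -/
def fromΓ : Γ(Spec (CommRingCat.of A), ⊤) →+* A := (Scheme.ΓSpecIso (CommRingCat.of A)).hom.hom

theorem fromΓ_toΓ (a : A) : fromΓ A (OmAff.toΓ A a) = a :=
  (Scheme.ΓSpecIso (CommRingCat.of A)).inv_hom_id_apply a

theorem toΓ_fromΓ (s : Γ(Spec (CommRingCat.of A), ⊤)) : OmAff.toΓ A (fromΓ A s) = s :=
  (Scheme.ΓSpecIso (CommRingCat.of A)).hom_inv_id_apply s

/-- Global differentials of an affine morphism are the Kähler differentials. -/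
theorem exists_kap : ∃ (κ : Ω[A⁄R] →ₛₗ[OmAff.toΓ A] Γ(Omega.sheaf (OmegaLib.sMap R A), ⊤))
    (κ' : Γ(Omega.sheaf (OmegaLib.sMap R A), ⊤) →ₛₗ[fromΓ A] Ω[A⁄R]),
      (∀ z, κ' (κ z) = z) ∧ (∀ w, κ (κ' w) = w) ∧
      ∀ b, κ (KaehlerDifferential.D R A b) = (OmegaSh.dOmega (OmegaLib.sMap R A)).app ⊤ (OmAff.toΓ A b) := by
  obtain ⟨e, he⟩ := OmegaLib.exists_iso_kTilde R A
  let κ : Ω[A⁄R] →ₛₗ[OmAff.toΓ A] Γ(Omega.sheaf (OmegaLib.sMap R A), ⊤) :=
    { toFun := fun z => e.inv.app ⊤ (OmegaLib.toTop R A z)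
      map_add' := fun a b => by rw [map_add, map_add]
      map_smul' := fun a z => by rw [OmegaLib.toTop_smul]; exact Scheme.Modules.Hom.app_smul _ _ _ }
  have h1 : ∀ x, e.inv.app ⊤ (e.hom.app ⊤ x) = x := fun x =>
    congr($(congrArg (fun t => Scheme.Modules.Hom.app t ⊤) e.hom_inv_id) x)
  have h2 : ∀ x, e.hom.app ⊤ (e.inv.app ⊤ x) = x := fun x =>
    congr($(congrArg (fun t => Scheme.Modules.Hom.app t ⊤) e.inv_hom_id) x)
  have hb : Function.Bijective κ :=
    (Function.bijective_iff_has_inverse.2 ⟨_, h2, h1⟩).comp (Synt29.OmegaStalk.top_toTop_bijective R A)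
  refine ⟨κ,
    { toFun := fun w => (Equiv.ofBijective κ hb).symm w
      map_add' := fun a b => hb.1 (by
        simp only [map_add, Equiv.ofBijective_apply_symm_apply κ hb])
      map_smul' := fun s w => hb.1 (by
        simp only [map_smulₛₗ, Equiv.ofBijective_apply_symm_apply κ hb, toΓ_fromΓ]) },
    (Equiv.ofBijective κ hb).symm_apply_apply, Equiv.ofBijective_apply_symm_apply κ hb, fun b => ?_⟩
  show e.inv.app ⊤ (OmegaLib.toTop R A (KaehlerDifferential.D R A b)) = _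
  rw [← he b, h1]
  rfl

variable (D : DeRhamSh.OmegaCx (OmegaLib.sMap R A))

/-- The affine open `⊤`. -/
abbrev topAff : (Spec (CommRingCat.of A)).affineOpens := ⟨⊤, isAffineOpen_top _⟩

/-- Global sections of the terms are the forms of the algebra. -/
theorem exists_phi : ∃ Φ : ∀ p : ℕ, ↥(⋀[A]^p (Ω[A⁄R])) ≃+ Γ(D.term p, ⊤),
    ∀ (p : ℕ) (b₀ : A) (b : Fin p → A), Φ p (DeRham.gen (KaehlerDifferential.D R A) p b₀ b) =
      (D.loc p (topAff A)).symm (OmAff.toΓ A b₀ • exteriorPower.ιMulti _ p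
        fun i => (OmegaSh.dOmega (OmegaLib.sMap R A)).app ⊤ (OmAff.toΓ A (b i))) := by
  obtain ⟨κ, κ', h1, h2, h3⟩ := exists_kap R A
  have hm : ∀ (p : ℕ) (z : ↥(⋀[A]^p (Ω[A⁄R]))),
      ExtPowSh.map p κ' (ExtPowSh.map p κ z) = z := fun p z =>
    Synt29.DRGen.gen_induction (KaehlerDifferential.D R A) (KaehlerDifferential.span_range_derivation R A)
      (P := fun z => ExtPowSh.map p κ' (ExtPowSh.map p κ z) = z) (by rw [map_zero, map_zero])
      (fun x y hx hy => by rw [map_add, map_add, hx, hy])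
      (fun b₀ b => by
        rw [DeRham.gen, map_smulₛₗ, map_smulₛₗ, fromΓ_toΓ, ExtPowSh.map_ιMulti, ExtPowSh.map_ιMulti]
        simp only [h1]) z
  have hm' : ∀ (p : ℕ) (w : ↥(⋀[Γ(Spec (CommRingCat.of A), ⊤)]^p Γ(Omega.sheaf (OmegaLib.sMap R A), ⊤))),
      ExtPowSh.map p κ (ExtPowSh.map p κ' w) = w := fun p w => by
    have : w ∈ Submodule.span Γ(Spec (CommRingCat.of A), ⊤) (Set.range (exteriorPower.ιMulti
        Γ(Spec (CommRingCat.of A), ⊤) p (M := Γ(Omega.sheaf (OmegaLib.sMap R A), ⊤)))) := by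
      rw [exteriorPower.ιMulti_span]; trivial
    induction this using Submodule.span_induction with
    | mem x hx =>
      obtain ⟨v, rfl⟩ := hx
      rw [ExtPowSh.map_ιMulti, ExtPowSh.map_ιMulti]
      simp only [h2]
    | zero => rw [map_zero, map_zero]
    | add x y _ _ hx hy => rw [map_add, map_add, hx, hy]
    | smul c x _ hx => rw [map_smulₛₗ, map_smulₛₗ, hx, toΓ_fromΓ]
  refine ⟨fun p =>
    { toFun := fun z => (D.loc p (topAff A)).symm (ExtPowSh.map p κ z)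
      invFun := fun s => ExtPowSh.map p κ' (D.loc p (topAff A) s)
      left_inv := fun z => by beta_reduce; rw [LinearEquiv.apply_symm_apply, hm]
      right_inv := fun s => by beta_reduce; rw [hm', LinearEquiv.symm_apply_apply]
      map_add' := fun a b => by rw [map_add, map_add] }, fun p b₀ b => ?_⟩
  show (D.loc p (topAff A)).symm (ExtPowSh.map p κ _) = _
  rw [DeRham.gen, map_smulₛₗ, ExtPowSh.map_ιMulti]
  simp only [h3]

/-- Degree `p` maps from the free sheaf are the `p`-forms. -/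
def secForm (p : ℕ) (Φ : ↥(⋀[A]^p (Ω[A⁄R])) ≃+ Γ(D.term p, ⊤)) :
    (CohCx.freeSheaf (Opens.grothendieckTopology (Spec (CommRingCat.of A))) (⊤ : (Spec (CommRingCat.of A)).Opens)
      ⟶ D.K.X p) ≃+ ↥(⋀[A]^p (Ω[A⁄R])) :=
  (homCongrRight _ (D.iso p)).trans
    ((SiteBase.secEquiv _ (⊤ : (Spec (CommRingCat.of A)).Opens) (Coh.toAb (D.term p))).trans Φ.symm)

theorem secForm_apply (p : ℕ) (Φ : ↥(⋀[A]^p (Ω[A⁄R])) ≃+ Γ(D.term p, ⊤))
    (t : CohCx.freeSheaf (Opens.grothendieckTopology (Spec (CommRingCat.of A)))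
      (⊤ : (Spec (CommRingCat.of A)).Opens) ⟶ D.K.X p) :
    secForm R A D p Φ t = Φ.symm (SiteBase.secEquiv _ _ (Coh.toAb (D.term p)) (t ≫ (D.iso p).hom)) := rfl

theorem secForm_symm_apply (p : ℕ) (Φ : ↥(⋀[A]^p (Ω[A⁄R])) ≃+ Γ(D.term p, ⊤)) (z : ↥(⋀[A]^p (Ω[A⁄R]))) :
    (secForm R A D p Φ).symm z =
      (SiteBase.secEquiv _ (⊤ : (Spec (CommRingCat.of A)).Opens) (Coh.toAb (D.term p))).symm (Φ z) ≫
        (D.iso p).inv := rfl

theorem phi_d (d : ∀ p : ℕ, ↥(⋀[A]^p (Ω[A⁄R])) →ₗ[R] ↥(⋀[A]^(p + 1) (Ω[A⁄R])))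
    (hd : DeRham.IsDiff (KaehlerDifferential.D R A) d)
    (Φ : ∀ p : ℕ, ↥(⋀[A]^p (Ω[A⁄R])) ≃+ Γ(D.term p, ⊤))
    (hΦ : ∀ (p : ℕ) (b₀ : A) (b : Fin p → A), Φ p (DeRham.gen (KaehlerDifferential.D R A) p b₀ b) =
      (D.loc p (topAff A)).symm (OmAff.toΓ A b₀ • exteriorPower.ιMulti _ p
        fun i => (OmegaSh.dOmega (OmegaLib.sMap R A)).app ⊤ (OmAff.toΓ A (b i))))
    (p : ℕ) (z : ↥(⋀[A]^p (Ω[A⁄R]))) :
      (D.K.d p (p + 1)).hom.app (op ⊤) ((D.iso p).inv.hom.app (op ⊤) (Φ p z)) =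
        (D.iso (p + 1)).inv.hom.app (op ⊤) (Φ (p + 1) (d p z)) :=
    Synt29.DRGen.gen_induction (KaehlerDifferential.D R A) (KaehlerDifferential.span_range_derivation R A)
      (P := fun z => (D.K.d p (p + 1)).hom.app (op ⊤) ((D.iso p).inv.hom.app (op ⊤) (Φ p z)) =
        (D.iso (p + 1)).inv.hom.app (op ⊤) (Φ (p + 1) (d p z)))
      (by simp only [map_zero]) (fun x y hx hy => by simp only [map_add, hx, hy])
      (fun b₀ b => by
        rw [hd.1, Synt29.DRGen.gen_one_cons, hΦ, hΦ, map_one, one_smul]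
        refine (D.rule p (topAff A) (OmAff.toΓ A b₀) fun i => OmAff.toΓ A (b i)).trans ?_
        congr 3
        funext j
        refine Fin.cases ?_ (fun i => ?_) j <;> simp) z

theorem secForm_d (d : ∀ p : ℕ, ↥(⋀[A]^p (Ω[A⁄R])) →ₗ[R] ↥(⋀[A]^(p + 1) (Ω[A⁄R])))
    (hd : DeRham.IsDiff (KaehlerDifferential.D R A) d)
    (Φ : ∀ p : ℕ, ↥(⋀[A]^p (Ω[A⁄R])) ≃+ Γ(D.term p, ⊤))
    (hΦ : ∀ (p : ℕ) (b₀ : A) (b : Fin p → A), Φ p (DeRham.gen (KaehlerDifferential.D R A) p b₀ b) =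
      (D.loc p (topAff A)).symm (OmAff.toΓ A b₀ • exteriorPower.ιMulti _ p
        fun i => (OmegaSh.dOmega (OmegaLib.sMap R A)).app ⊤ (OmAff.toΓ A (b i))))
    (p : ℕ) (t : CohCx.freeSheaf (Opens.grothendieckTopology (Spec (CommRingCat.of A)))
      (⊤ : (Spec (CommRingCat.of A)).Opens) ⟶ D.K.X p) :
    secForm R A D (p + 1) (Φ (p + 1)) (t ≫ D.K.d p (p + 1)) = d p (secForm R A D p (Φ p) t) := by
  have key := phi_d R A D d hd Φ hΦ p
  obtain ⟨z, rfl⟩ := (secForm R A D p (Φ p)).symm.surjective t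
  rw [AddEquiv.apply_symm_apply, secForm_symm_apply, secForm_apply]
  refine (Φ (p + 1)).symm_apply_eq.2 ?_
  have h : ∀ (t : CohCx.freeSheaf (Opens.grothendieckTopology (Spec (CommRingCat.of A)))
      (⊤ : (Spec (CommRingCat.of A)).Opens) ⟶ Coh.toAb (D.term p)),
      SiteBase.secEquiv _ _ _ (((t ≫ (D.iso p).inv) ≫ D.K.d p (p + 1)) ≫ (D.iso (p + 1)).hom) =
      (D.iso (p + 1)).hom.hom.app (op ⊤) ((D.K.d p (p + 1)).hom.app (op ⊤)
        ((D.iso p).inv.hom.app (op ⊤) (SiteBase.secEquiv _ _ _ t))) := fun t =>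
    (SiteBase.secEquiv_comp _ _ _).trans (congrArg _ ((SiteBase.secEquiv_comp _ _ _).trans
      (congrArg _ (SiteBase.secEquiv_comp _ _ _))))
  refine (h ((SiteBase.secEquiv _ _ (Coh.toAb (D.term p))).symm (Φ p z))).trans ?_
  rw [AddEquiv.apply_symm_apply]
  refine (congrArg _ (key z)).trans ?_
  exact congr($(NatTrans.congr_app (congrArg (fun t => t.hom) (D.iso (p + 1)).inv_hom_id) (op ⊤))
    (Φ (p + 1) (d p z)))

theorem subsingleton_ext_term (q r : ℕ) : Subsingleton (Abelian.Ext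
    (CohCx.freeSheaf (Opens.grothendieckTopology (Spec (CommRingCat.of A))) (⊤ : (Spec (CommRingCat.of A)).Opens))
    (Coh.toAb (D.term q)) (r + 1)) :=
  haveI := QCoh.subsingleton_HH_of_isAffine (isQCoh_term D q) r
  (SiteBase.huTerminalEquiv Limits.isTerminalTop (Coh.toAb (D.term q)) (r + 1)).toEquiv.subsingleton

/-- The de Rham cohomology of an affine scheme: closed forms modulo exact forms. -/
theorem exists_closed_to_HdR
    [HasDerivedCategory.{u} (Sheaf (Opens.grothendieckTopology ↥(Spec (CommRingCat.of A))) AddCommGrpCat.{u})]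
    (d : ∀ p : ℕ, ↥(⋀[A]^p (Ω[A⁄R])) →ₗ[R] ↥(⋀[A]^(p + 1) (Ω[A⁄R])))
    (hd : DeRham.IsDiff (KaehlerDifferential.D R A) d) (n : ℕ) :
    ∃ ξ : DeRham.cocycles d n →+ DeRhamSh.HdR D (n : ℤ), Function.Surjective ξ ∧
      ∀ x, ξ x = 0 ↔ (x : ↥(⋀[A]^n (Ω[A⁄R]))) ∈ DeRham.coboundaries d n := by
  obtain ⟨Φ, hΦ⟩ := exists_phi R A D
  exact Acy.exists_closed_to_hom _ D.K (fun p => secForm R A D p (Φ p)) (fun p => (d p).toAddMonoidHom)
    (secForm_d R A D d hd Φ hΦ)
    (fun p r => Acy.subsingleton_ext_of_iso _ (D.iso p) (r + 1) (subsingleton_ext_term R A D p r))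
    (DeRham.cocycles d n).toAddSubgroup (fun x => Iff.rfl) (DeRham.coboundaries d n).toAddSubgroup
    (by cases n <;> rfl)

/-- A de Rham complex of an affine morphism induces a de Rham differential on the forms of the algebra. -/
theorem exists_isDiff_of_cx (D : DeRhamSh.OmegaCx (OmegaLib.sMap R A)) :
    ∃ d : ∀ p : ℕ, ↥(⋀[A]^p (Ω[A⁄R])) →ₗ[R] ↥(⋀[A]^(p + 1) (Ω[A⁄R])),
      DeRham.IsRule (KaehlerDifferential.D R A) d := by
  obtain ⟨Φ, hΦ⟩ := exists_phi R A D
  let δ := KaehlerDifferential.D R A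
  let g : ∀ p, ↥(⋀[A]^p (Ω[A⁄R])) →+ ↥(⋀[A]^(p + 1) (Ω[A⁄R])) := fun p =>
    (Φ (p + 1)).symm.toAddMonoidHom.comp (((D.iso (p + 1)).hom.hom.app (op ⊤)).hom.comp
      (((D.K.d p (p + 1)).hom.app (op ⊤)).hom.comp (((D.iso p).inv.hom.app (op ⊤)).hom.comp (Φ p).toAddMonoidHom)))
  have hg : ∀ (p : ℕ) (b₀ : A) (b : Fin p → A), g p (DeRham.gen δ p b₀ b) =
      exteriorPower.ιMulti A (p + 1) (Fin.cons (δ b₀) fun i => δ (b i)) := fun p b₀ b => by
    have hr : (D.K.d p (p + 1)).hom.app (op ⊤) ((D.iso p).inv.hom.app (op ⊤) (Φ p (DeRham.gen δ p b₀ b))) =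
        (D.iso (p + 1)).inv.hom.app (op ⊤)
          (Φ (p + 1) (exteriorPower.ιMulti A (p + 1) (Fin.cons (δ b₀) fun i => δ (b i)))) := by
      rw [Synt29.DRGen.gen_one_cons, hΦ, hΦ, map_one, one_smul]
      refine (D.rule p (topAff A) (OmAff.toΓ A b₀) fun i => OmAff.toΓ A (b i)).trans ?_
      congr 3
      funext j
      refine Fin.cases ?_ (fun i => ?_) j <;> simp
    refine (Φ (p + 1)).symm_apply_eq.2 ?_
    refine (congrArg _ hr).trans ?_
    exact congr($(NatTrans.congr_app (congrArg (fun t => t.hom) (D.iso (p + 1)).inv_hom_id) (op ⊤))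
      (Φ (p + 1) (exteriorPower.ιMulti A (p + 1) (Fin.cons (δ b₀) fun i => δ (b i)))))
  refine ⟨fun p => { toFun := g p, map_add' := map_add _, map_smul' := fun r z => ?_ }, hg⟩
  refine Synt29.DRGen.gen_induction δ (KaehlerDifferential.span_range_derivation R A)
    (P := fun z => g p (r • z) = r • g p z) (by rw [smul_zero, map_zero, smul_zero])
    (fun x y hx hy => by rw [smul_add, map_add, hx, hy, map_add, smul_add]) (fun b₀ b => ?_) z
  rw [show r • DeRham.gen δ p b₀ b = DeRham.gen δ p (algebraMap R A r * b₀) b by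
    rw [DeRham.gen, DeRham.gen, ← smul_smul, algebraMap_smul], hg, hg, ← Algebra.smul_def, δ.map_smul]
  rw [← algebraMap_smul A r (δ b₀), ← algebraMap_smul A r (exteriorPower.ιMulti A (p + 1) _)]
  exact (congrArg _ (Fin.update_cons_zero ..).symm).trans (((exteriorPower.ιMulti A (p + 1)).map_update_smul
    (Fin.cons 0 fun i => δ (b i)) 0 (algebraMap R A r) (δ b₀)).trans (by rw [Fin.update_cons_zero]))

section H

variable {R A M : Type u} [CommRing R] [CommRing A] [Algebra R A] [AddCommGroup M] [Module A M] [Module R M]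
  [IsScalarTower R A M] {δ : Derivation R A M} {d : ∀ p : ℕ, ↥(⋀[A]^p M) →ₗ[R] ↥(⋀[A]^(p + 1) M)}

/-- The cohomology of the de Rham complex of a ring is closed modulo exact forms. -/
theorem nonempty_addEquiv_H (hd : DeRham.IsDiff δ d) (n : ℕ) {G : Type*} [AddCommGroup G]
    (ξ : DeRham.cocycles d n →+ G) (hs : Function.Surjective ξ)
    (hk : ∀ x, ξ x = 0 ↔ (x : ↥(⋀[A]^n M)) ∈ DeRham.coboundaries d n) :
    Nonempty (G ≃+ DeRham.H hd n) := by
  let K := DeRham.cx hd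
  have hg : ∀ z : ↥(⋀[A]^n M), (K.sc n).g.hom z = 0 ↔ z ∈ DeRham.cocycles d n := fun z => by
    show (K.d n ((ComplexShape.up ℕ).next n)).hom z = 0 ↔ d n z = 0
    rw [show (ComplexShape.up ℕ).next n = n + 1 from CochainComplex.next ℕ n]
    simp only [K, DeRham.cx, CochainComplex.of_d]
    rfl
  have hf : ∀ z : ↥(⋀[A]^n M), z ∈ LinearMap.range (K.sc n).f.hom ↔ z ∈ DeRham.coboundaries d n := fun z => by
    show z ∈ LinearMap.range (K.d ((ComplexShape.up ℕ).prev n) n).hom ↔ _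
    cases n with
    | zero =>
      rw [K.shape _ _ (by simp)]
      show _ ↔ z ∈ (⊥ : Submodule R _)
      rw [Submodule.mem_bot]
      exact ⟨fun ⟨w, hw⟩ => hw.symm, fun h => ⟨0, h ▸ map_zero _⟩⟩
    | succ m =>
      rw [show (ComplexShape.up ℕ).prev (m + 1) = m from CochainComplex.prev_nat_succ m]
      simp only [K, DeRham.cx, CochainComplex.of_d]
      rfl
  let π : DeRham.cocycles d n →+ (LinearMap.ker (K.sc n).g.hom ⧸ LinearMap.range (K.sc n).moduleCatToCycles) :=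
    (Submodule.mkQ _).toAddMonoidHom.comp
      { toFun := fun x => ⟨x.1, (hg _).2 x.2⟩
        map_zero' := rfl
        map_add' := fun _ _ => rfl }
  have hπ : Function.Surjective π := fun y => by
    obtain ⟨⟨z, hz⟩, rfl⟩ := Submodule.mkQ_surjective _ y
    exact ⟨⟨z, (hg z).1 hz⟩, rfl⟩
  have hk' : ξ.ker = π.ker := by
    ext x
    rw [AddMonoidHom.mem_ker, AddMonoidHom.mem_ker, hk, ← hf]
    show _ ↔ Submodule.mkQ _ _ = 0
    rw [Submodule.mkQ_apply, Submodule.Quotient.mk_eq_zero]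
    exact ⟨fun ⟨w, hw⟩ => ⟨w, Subtype.ext hw⟩, fun ⟨w, hw⟩ => ⟨w, congrArg Subtype.val hw⟩⟩
  exact ⟨(QuotientAddGroup.quotientKerEquivOfSurjective ξ hs).symm.trans
    ((QuotientAddGroup.quotientAddEquivOfEq hk').trans
      ((QuotientAddGroup.quotientKerEquivOfSurjective π hπ).trans
        (K.sc n).moduleCatHomologyIso.toLinearEquiv.symm.toAddEquiv))⟩

end H

end Groth.Agent.H6DR
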