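import Groth.Agent.H6DR.Vanish
import Groth.Agent.S0002
import Groth.Prelude.Def_KLinDR

/-!
# Finiteness of hypercohomology with a ring of operators from the cohomology of the terms
-/

set_option autoImplicit false
set_option linter.style.haveILetI false
set_option backward.isDefEq.respectTransparency false
set_option backward.isDefEq.respectTransparency.types false
set_option maxHeartbeats 800000
set_option synthInstance.maxHeartbeats 200000

universe w v u u'

open CategoryTheory CategoryTheory.Limits AlgebraicGeometry TopologicalSpace Opposite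
open CategoryTheory.Pretriangulated

noncomputable section

namespace Groth.Agent.H6DR

open Groth.Agent

section cx

variable {C : Type u} [Category.{v} C] [Abelian C] {R : Type u'} [CommRing R]

/-- The action on a term of an action on a complex. -/
def actX (F : CochainComplex C ℤ) (ρ : R →+* End F) (p : ℤ) : R →+* End (F.X p) where
  toFun a := (ρ a).f p
  map_one' := by rw [map_one]; rfl
  map_mul' a b := by rw [map_mul]; rfl
  map_zero' := by rw [map_zero]; rfl
  map_add' a b := by rw [map_add]; rfl

/-- The action on a complex concentrated in one degree. -/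
def singleAct {M : C} (p : ℤ) (σ : R →+* End M) :
    R →+* End ((HomologicalComplex.single C (ComplexShape.up ℤ) p).obj M) where
  toFun a := (HomologicalComplex.single C (ComplexShape.up ℤ) p).map (σ a)
  map_one' := by rw [map_one]; exact CategoryTheory.Functor.map_id _ _
  map_mul' a b := by rw [map_mul]; exact Functor.map_comp _ _ _
  map_zero' := by rw [map_zero]; exact Functor.map_zero _ _ _
  map_add' a b := by rw [map_add]; exact Functor.map_add _

variable [HasDerivedCategory.{w} C] [IsNoetherianRing R] (T : C)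

/-- Finiteness is inherited along isomorphisms intertwining the actions. -/
theorem finite_of_iso {K L : CochainComplex C ℤ} (ρ : R →+* End K) (ρ' : R →+* End L) (e : K ≅ L)
    (he : ∀ a, (ρ a : K ⟶ K) ≫ e.hom = e.hom ≫ (ρ' a : L ⟶ L)) (i : ℤ)
    [Module.Finite R (KLinDR.HTρ T K ρ i)] : Module.Finite R (KLinDR.HTρ T L ρ' i) := by
  refine Module.Finite.of_surjective (KLinDR.HTρmap T e.hom he i) fun y => ?_
  have he' : ∀ a, (ρ' a : L ⟶ L) ≫ e.inv = e.inv ≫ (ρ a : K ⟶ K) := fun a => by
    rw [Iso.comp_inv_eq, Category.assoc, he a, Iso.inv_hom_id_assoc]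
  refine ⟨KLinDR.HTρmap T e.inv he' i y, ?_⟩
  change (_ ≫ (shiftFunctor (DerivedCategory C) i).map (DerivedCategory.Q.map e.inv)) ≫
    (shiftFunctor (DerivedCategory C) i).map (DerivedCategory.Q.map e.hom) = _
  rw [Category.assoc, ← Functor.map_comp, ← Functor.map_comp, e.inv_hom_id]
  simp
  rfl

/-- The hypercohomology of a bounded complex with operators is finite if that of each term is. -/
theorem finite_of_terms (i a : ℤ) : ∀ (k : ℕ) (F : CochainComplex C ℤ) (ρ : R →+* End F),
    (∀ p : ℤ, p < a ∨ a + k ≤ p → IsZero (F.X p)) →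
    (∀ p : ℤ, a ≤ p → p < a + k → Module.Finite R (KLinDR.HTρ T
      ((HomologicalComplex.single C (ComplexShape.up ℤ) p).obj (F.X p)) (singleAct p (actX F ρ p)) i)) →
    Module.Finite R (KLinDR.HTρ T F ρ i)
  | 0, F, ρ, hb, _ => by
    have hF : IsZero F := by
      rw [IsZero.iff_id_eq_zero]
      ext p : 1
      exact (hb p (by omega)).eq_of_src _ _
    haveI : Subsingleton (KLinDR.HTρ T F ρ i) := ⟨fun x y =>
      ((shiftFunctor _ i).map_isZero (DerivedCategory.Q.map_isZero hF)).eq_of_tgt _ _⟩
    infer_instance
  | k + 1, F, ρ, hb, hv => by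
    let b := a + (k : ℤ)
    let S := (HomologicalComplex.single C (ComplexShape.up ℤ) b).obj (F.X b)
    let s : S ⟶ F := HomologicalComplex.mkHomFromSingle (𝟙 (F.X b)) fun p hp => by
      have hp' : b + 1 = p := hp
      exact (hb p (by omega)).eq_of_tgt _ _
    haveI hsm : ∀ p, Mono (s.f p) := fun p => by
      by_cases hp : p = b
      · subst hp
        simp only [s, HomologicalComplex.mkHomFromSingle_f]
        infer_instance
      · exact ⟨fun u v _ => (HomologicalComplex.isZero_single_obj_X (ComplexShape.up ℤ) b (F.X b) p hp).eq_of_tgt u v⟩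
    haveI : Mono s := HomologicalComplex.mono_of_mono_f s hsm
    have hs : KLinDR.Commutes (singleAct b (actX F ρ b)) ρ s := fun x => by
      refine HomologicalComplex.from_single_hom_ext ?_
      simp [s, S, singleAct, actX, HomologicalComplex.mkHomFromSingle_f,
        HomologicalComplex.single_map_f_self]
    let σ : R →+* End (cokernel s) :=
      { toFun := fun x => cokernel.map s s _ (ρ x) (hs x).symm
        map_one' := by refine (cancel_epi (cokernel.π s)).1 ?_; rw [cokernel.π_desc, map_one]; simp [End.one_def]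
        map_mul' := fun x y => by
          refine (cancel_epi (cokernel.π s)).1 ?_; rw [cokernel.π_desc, map_mul]; simp [End.mul_def]
        map_zero' := by refine (cancel_epi (cokernel.π s)).1 ?_; rw [cokernel.π_desc, map_zero]; exact zero_comp.trans comp_zero.symm
        map_add' := fun x y => by
          refine (cancel_epi (cokernel.π s)).1 ?_
          refine (cokernel.π_desc _ _ _).trans ((congrArg (· ≫ cokernel.π s) (map_add ρ x y)).trans ?_)
          exact (Preadditive.add_comp _ _ _ _ _ _).trans ((congrArg₂ (· + ·) (cokernel.π_desc _ _ _).symm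
            (cokernel.π_desc _ _ _).symm).trans (Preadditive.comp_add _ _ _ _ _ _).symm) }
    have hπ : KLinDR.Commutes ρ σ (cokernel.π s) := fun x => by simp [σ]
    let T' := ShortComplex.mk s (cokernel.π s) (cokernel.condition s)
    have hT : T'.ShortExact := { exact := ShortComplex.exact_of_g_is_cokernel _ (cokernelIsCokernel s) }
    have heq : ∀ p, ((T'.map (HomologicalComplex.eval C (ComplexShape.up ℤ) p))).ShortExact :=
      fun p => hT.map_of_exact (HomologicalComplex.eval C (ComplexShape.up ℤ) p)
    have hq : ∀ p, p ≠ b → IsIso ((cokernel.π s).f p) := fun p hp =>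
      (heq p).isIso_g_iff.mpr (HomologicalComplex.isZero_single_obj_X (ComplexShape.up ℤ) b (F.X b) p hp)
    have hqb : IsZero ((cokernel s).X b) := by
      have he : IsIso (s.f b) := by
        simp only [s, HomologicalComplex.mkHomFromSingle_f]
        infer_instance
      exact (heq b).isIso_f_iff.mp he
    haveI : Module.Finite R (KLinDR.HTρ T (cokernel s) σ i) := by
      refine finite_of_terms i a k (cokernel s) σ (fun p hp => ?_) (fun p hp hp' => ?_)
      · by_cases hpb : p = b
        · exact hpb ▸ hqb
        · haveI := hq p hpb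
          exact (hb p (by omega)).of_iso (asIso ((cokernel.π s).f p)).symm
      · haveI := hq p (by omega)
        haveI := hv p hp (by omega)
        refine finite_of_iso T (singleAct p (actX F ρ p)) (singleAct p (actX (cokernel s) σ p)) ((HomologicalComplex.single C (ComplexShape.up ℤ) p).mapIso
          (asIso ((cokernel.π s).f p))) (fun x => ?_) i
        show (HomologicalComplex.single C (ComplexShape.up ℤ) p).map _ ≫
          (HomologicalComplex.single C (ComplexShape.up ℤ) p).map _ =
          (HomologicalComplex.single C (ComplexShape.up ℤ) p).map _ ≫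
          (HomologicalComplex.single C (ComplexShape.up ℤ) p).map _
        rw [← Functor.map_comp, ← Functor.map_comp]
        exact congrArg _ (congr($(hπ x).f p))
    haveI : Module.Finite R (KLinDR.HTρ T S (singleAct b (actX F ρ b)) i) := hv b (by omega) (by omega)
    have hd := Triangle.shift_distinguished _ (DerivedCategory.triangleOfSES_distinguished hT) i
    have hex : LinearMap.range (KLinDR.HTρmap T s hs i) = LinearMap.ker (KLinDR.HTρmap T (cokernel.π s) hπ i) := by
      refine le_antisymm ?_ fun x hx => ?_
      · rintro _ ⟨y, rfl⟩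
        change (_ ≫ (shiftFunctor (DerivedCategory C) i).map (DerivedCategory.Q.map s)) ≫
          (shiftFunctor (DerivedCategory C) i).map (DerivedCategory.Q.map (cokernel.π s)) = 0
        rw [Category.assoc, ← Functor.map_comp, ← Functor.map_comp, cokernel.condition]
        simp
      · have hx' : KLinDR.HTρ.toHT x ≫ (shiftFunctor (DerivedCategory C) i).map
            (DerivedCategory.Q.map (cokernel.π s)) = 0 := hx
        obtain ⟨g, hg⟩ := Triangle.coyoneda_exact₂ _ hd (KLinDR.HTρ.toHT x) (by
          change KLinDR.HTρ.toHT x ≫ (i.negOnePow • (shiftFunctor (DerivedCategory C) i).map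
            (DerivedCategory.Q.map (cokernel.π s))) = 0
          rw [Units.smul_def, Preadditive.comp_zsmul, hx', smul_zero])
        refine ⟨KLinDR.HTρ.toHT.symm (i.negOnePow • g), ?_⟩
        refine KLinDR.HTρ.toHT.injective ?_
        rw [hg]
        change (i.negOnePow • g) ≫ (shiftFunctor (DerivedCategory C) i).map (DerivedCategory.Q.map s) =
          g ≫ (i.negOnePow • (shiftFunctor (DerivedCategory C) i).map (DerivedCategory.Q.map s))
        simp
    haveI : IsNoetherian R (KLinDR.HTρ T F ρ i) :=
      isNoetherian_of_range_eq_ker (KLinDR.HTρmap T s hs i) (KLinDR.HTρmap T (cokernel.π s) hπ i) hex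
    infer_instance

end cx

section single

variable {C : Type u} [Category.{v} C] [Abelian C] [HasDerivedCategory.{w} C] [HasExt.{v} C]
  {R : Type u'} [CommRing R]

/-- Transport to the heart of the hypercohomology of a single object. -/
theorem finite_single (T M : C) (σ : R →+* End M) (p i : ℤ) (n : ℕ) (hn : (n : ℤ) = i - p)
    (H : Type v) [AddCommGroup H] [Module R H] [Module.Finite R H] (j : H →+ Abelian.Ext T M n)
    (hsurj : Function.Surjective j)
    (hj : ∀ (a : R) (x : H), j (a • x) = (j x).comp (Abelian.Ext.mk₀ (σ a)) (add_zero n)) :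
    Module.Finite R (KLinDR.HTρ T ((HomologicalComplex.single C (ComplexShape.up ℤ) p).obj M)
      (singleAct p σ) i) := by
  let τ : (DerivedCategory.singleFunctor C 0) ⋙ shiftFunctor (DerivedCategory C) (n : ℤ) ≅
      (HomologicalComplex.single C (ComplexShape.up ℤ) p ⋙ DerivedCategory.Q) ⋙
        shiftFunctor (DerivedCategory C) i :=
    Functor.isoWhiskerLeft _ (shiftFunctorAdd' (DerivedCategory C) (-p) i (n : ℤ) (by omega)) ≪≫
      (Functor.associator _ _ _).symm ≪≫
      Functor.isoWhiskerRight ((DerivedCategory.singleFunctors C).shiftIso (-p) p 0 (by omega) ≪≫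
        DerivedCategory.singleFunctorIsoCompQ C p) _
  let g : H →ₗ[R] KLinDR.HTρ T ((HomologicalComplex.single C (ComplexShape.up ℤ) p).obj M)
      (singleAct p σ) i :=
    { toFun := fun x => KLinDR.HTρ.toHT.symm ((j x).hom ≫ τ.hom.app M)
      map_add' := fun x y => by
        rw [map_add, Abelian.Ext.add_hom]
        exact Preadditive.add_comp _ _ _ _ _ _
      map_smul' := fun a x => by
        refine KLinDR.HTρ.toHT.injective ?_
        change (j (a • x)).hom ≫ τ.hom.app M = ((j x).hom ≫ τ.hom.app M) ≫ _
        rw [hj, Abelian.Ext.comp_hom, Abelian.Ext.mk₀_hom, ShiftedHom.comp_mk₀, Category.assoc,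
          Category.assoc]
        exact congrArg _ (τ.hom.naturality (σ a)) }
  refine Module.Finite.of_surjective g fun y => ?_
  obtain ⟨x, hx⟩ := hsurj (Abelian.Ext.homEquiv.symm (KLinDR.HTρ.toHT y ≫ τ.inv.app M))
  refine ⟨x, KLinDR.HTρ.toHT.injective ?_⟩
  change (j x).hom ≫ τ.hom.app M = _
  rw [hx, Abelian.Ext.hom, Equiv.apply_symm_apply, Category.assoc, Iso.inv_hom_id_app]
  exact Category.comp_id _

/-- No hypercohomology of a single object in negative degrees. -/
theorem finite_single_of_lt (T M : C) (σ : R →+* End M) (p i : ℤ) (h : i < p) :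
    Module.Finite R (KLinDR.HTρ T ((HomologicalComplex.single C (ComplexShape.up ℤ) p).obj M)
      (singleAct p σ) i) := by
  haveI : Subsingleton (KLinDR.HTρ T ((HomologicalComplex.single C (ComplexShape.up ℤ) p).obj M)
      (singleAct p σ) i) := subsingleton_of_forall_eq 0 fun x => by
    let e := (shiftFunctor (DerivedCategory C) i).mapIso ((DerivedCategory.singleFunctorIsoCompQ C p).app M)
    exact (cancel_mono e.inv).1 ((eq_zero_single T M p i (fun n hn => by omega)
      (KLinDR.HTρ.toHT x ≫ e.inv)).trans zero_comp.symm)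
  infer_instance

end single

section dr

variable {X : Scheme.{u}} {A : Type u} [CommRing A]

/-- Multiplication by scalars on the underlying abelian sheaf. -/
def smulAct (M : X.Modules) (c : A →+* Coh.Γtop X) : A →+* End (Coh.toAb M) where
  toFun a := Coh.smulAb M (c a)
  map_one' := by rw [map_one]; exact Coh.smulAb_one M
  map_mul' a b := by rw [map_mul]; exact Coh.smulAb_mul M _ _
  map_zero' := by rw [map_zero]; exact Coh.smulAb_zero M
  map_add' a b := by rw [map_add]; exact Coh.smulAb_add M _ _

theorem hu_symm_map {M N : Sheaf (Opens.grothendieckTopology X) AddCommGrpCat.{u}} (φ : M ⟶ N) (n : ℕ)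
    (x : Sheaf.H M n) :
    (SiteBase.huTerminalEquiv Limits.isTerminalTop N n).symm (Sheaf.H.map φ n x) =
      Abelian.Ext.comp ((SiteBase.huTerminalEquiv Limits.isTerminalTop M n).symm x)
        (Abelian.Ext.mk₀ φ) (add_zero n) :=
  (Abelian.Ext.comp_assoc_of_third_deg_zero
    (Abelian.Ext.mk₀ (SiteBase.freeSheafIsoConst (Opens.grothendieckTopology ↥X) Limits.isTerminalTop).hom) x
    (Abelian.Ext.mk₀ φ) (zero_add n)).symm

/-- The hypercohomology of one term is finite when its cohomology is. -/
theorem finite_single_smul [IsNoetherianRing A] (f : X ⟶ Spec (CommRingCat.of A)) (M : X.Modules)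
    [HasDerivedCategory.{u} (Sheaf (Opens.grothendieckTopology X) AddCommGrpCat.{u})] (p i : ℤ)
    (hfin : ∀ n : ℕ, letI : X.Over (Spec (CommRingCat.of A)) := ⟨f⟩; Module.Finite A (Coh.HH X M n)) :
    Module.Finite A (KLinDR.HTρ (CohCx.freeSheaf (Opens.grothendieckTopology X) (⊤ : X.Opens))
      ((HomologicalComplex.single _ (ComplexShape.up ℤ) p).obj (Coh.toAb M))
      (singleAct p (smulAct M (Coh.toGlobal f))) i) := by
  letI : X.Over (Spec (CommRingCat.of A)) := ⟨f⟩
  rcases lt_or_ge i p with h | h
  · exact finite_single_of_lt _ _ _ p i h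
  · obtain ⟨n, hn⟩ := Int.eq_ofNat_of_zero_le (show 0 ≤ i - p by omega)
    haveI := hfin n
    refine finite_single _ (Coh.toAb M) (smulAct M (Coh.toGlobal f)) p i n hn.symm (Coh.HH X M n)
      (SiteBase.huTerminalEquiv Limits.isTerminalTop (Coh.toAb M) n).symm.toAddMonoidHom
      (AddEquiv.surjective _) fun a x => ?_
    exact hu_symm_map (Coh.smulAb M (Coh.toGlobal f a)) n x

/-- De Rham cohomology is finite over a Noetherian base when the Hodge cohomology is. -/
theorem finite_HdR [IsNoetherianRing A] {f : X ⟶ Spec (CommRingCat.of A)} {Ω' : X.Modules}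
    {δ : OmegaSh.Der f Ω'} (D : DeRhamSh.Cx f Ω' δ)
    (h : KLinDR.TermwiseLinear (Coh.toGlobal f) D.K D.term D.iso)
    [HasDerivedCategory.{u} (Sheaf (Opens.grothendieckTopology X) AddCommGrpCat.{u})] (N : ℕ)
    (hN : ∀ p : ℕ, N < p → IsZero (D.term p))
    (hfin : ∀ p n : ℕ, letI : X.Over (Spec (CommRingCat.of A)) := ⟨f⟩
      Module.Finite A (Coh.HH X (D.term p) n)) (i : ℤ) :
    Module.Finite A (KLinDR.HdR (Coh.toGlobal f) D h i) := by
  letI : X.Over (Spec (CommRingCat.of A)) := ⟨f⟩
  refine finite_of_terms _ i 0 (N + 1) D.KZ (KLinDR.scalar h) (fun p hp => ?_) (fun p hp hp' => ?_)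
  · rcases hp with hp | hp
    · exact D.K.isZero_extend_X _ p fun q hq => by
        have : (q : ℤ) = p := hq
        omega
    · obtain ⟨q, rfl⟩ := Int.eq_ofNat_of_zero_le (show 0 ≤ p by omega)
      exact (((QCoh.toAbFunctor X).map_isZero (hN q (by omega))).of_iso (D.iso q)).of_iso
        (D.K.extendXIso ComplexShape.embeddingUpNat rfl)
  · obtain ⟨q, rfl⟩ := Int.eq_ofNat_of_zero_le hp
    let e := D.K.extendXIso ComplexShape.embeddingUpNat (ComplexShape.embeddingUpNat_f q) ≪≫ D.iso q
    haveI := finite_single_smul f (D.term q) (q : ℤ) i (hfin q)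
    refine finite_of_iso _ (singleAct (q : ℤ) (smulAct (D.term q) (Coh.toGlobal f)))
      (singleAct (q : ℤ) (actX D.KZ (KLinDR.scalar h) q))
      ((HomologicalComplex.single _ (ComplexShape.up ℤ) (q : ℤ)).mapIso e.symm)
      (fun a => ?_) i
    show (HomologicalComplex.single _ (ComplexShape.up ℤ) (q : ℤ)).map _ ≫
      (HomologicalComplex.single _ (ComplexShape.up ℤ) (q : ℤ)).map _ =
      (HomologicalComplex.single _ (ComplexShape.up ℤ) (q : ℤ)).map _ ≫
      (HomologicalComplex.single _ (ComplexShape.up ℤ) (q : ℤ)).map _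
    rw [← Functor.map_comp, ← Functor.map_comp]
    congr 1
    change Coh.smulAb _ _ ≫ e.inv = e.inv ≫ (KLinDR.scalar h a : D.KZ ⟶ D.KZ).f (q : ℤ)
    rw [KLinDR.scalar_f]
    simp [e, KLinDR.scalarEnd]

end dr

end Groth.Agent.H6DR

namespace Groth.Agent.H6DR

open Groth.Agent

section ft

variable {X S : Scheme.{u}} {f : X ⟶ S}

/-- The terms of a de Rham complex are of finite type for a morphism locally of finite type. -/
theorem isFT_term [QuasiSeparated f] [LocallyOfFiniteType f] (D : DeRhamSh.OmegaCx f) (p : ℕ) :
    CohB1.IsFT (D.term p) := by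
  refine QCoh.isFT_of_finite (isQCoh_term D p) (fun U : X.affineOpens => U.1)
    (eq_top_iff.mpr fun x _ => ?_) (fun U => U.2) fun U => ?_
  · obtain ⟨U, hU, hxU, -⟩ := exists_isAffineOpen_mem_and_subset (show x ∈ (⊤ : X.Opens) from trivial)
    exact Opens.mem_iSup.mpr ⟨⟨U, hU⟩, hxU⟩
  · haveI : Module.Finite Γ(X, U.1) Γ(Omega.sheaf f, U.1) :=
      QCoh.finite_of_isFT (OmegaUniv.isQCoh_omega f) (OmegaUniv.isFT_omega f) U.2
    exact Module.Finite.equiv (D.loc p U).symm

/-- On a quasi-compact scheme locally of finite type over the base, almost all terms of a de Rham complex vanish. -/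
theorem exists_isZero_term [QuasiSeparated f] [LocallyOfFiniteType f] [CompactSpace X]
    (D : DeRhamSh.OmegaCx f) : ∃ N : ℕ, ∀ p : ℕ, N < p → IsZero (D.term p) := by
  classical
  let 𝒰 := X.affineCover.finiteSubcover
  have hfin : ∀ j, Module.Finite Γ(X, (𝒰.f j).opensRange) Γ(Omega.sheaf f, (𝒰.f j).opensRange) := fun j =>
    QCoh.finite_of_isFT (OmegaUniv.isQCoh_omega f) (OmegaUniv.isFT_omega f) (isAffineOpen_opensRange _)
  choose m π hπ using fun j => @Module.Finite.exists_fin' _ _ _ _ _ (hfin j)
  refine ⟨Finset.univ.sup m, fun p hp => ?_⟩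
  refine QCoh.isZero_of_cover (isQCoh_term D p) (fun j => (𝒰.f j).opensRange)
    (fun j => isAffineOpen_opensRange _) (fun x => ?_) fun j => ?_
  · exact ⟨𝒰.idx x, 𝒰.covers x⟩
  · haveI : IsEmpty (Set.powersetCard (Fin (m j)) p) := ⟨fun s => by
      have h2 := Finset.card_le_univ (s.1)
      have h3 : s.1.card = p := s.2
      have h4 : m j ≤ Finset.univ.sup m := Finset.le_sup (Finset.mem_univ j)
      simp at h2
      omega⟩
    haveI : Subsingleton ↥(⋀[Γ(X, (𝒰.f j).opensRange)]^p (Fin (m j) → Γ(X, (𝒰.f j).opensRange))) :=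
      (Module.Basis.exteriorPower p (Pi.basisFun _ _)).repr.toEquiv.subsingleton
    haveI := (exteriorPower.map_surjective (n := p) (hπ j)).subsingleton
    exact (D.loc p ⟨_, isAffineOpen_opensRange _⟩).toEquiv.subsingleton

end ft

end Groth.Agent.H6DR
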