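import Groth.Agent.Synt29.Lie
import Groth.Agent.Synt29.DRGen

/-!
# The algebraic Poincaré lemma for polynomial rings in several variables
-/

set_option autoImplicit false
set_option linter.style.haveILetI false
set_option maxHeartbeats 1000000

universe u

noncomputable section

namespace Groth.Agent.H6DR

open Groth.Agent MvPolynomial

variable {R : Type u} [CommRing R] {σ : Type}

/-- The Euler derivation. -/
def euler (R : Type u) [CommRing R] (σ : Type) : Derivation R (MvPolynomial σ R) (MvPolynomial σ R) :=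
  mkDerivation R fun i => X i

/-- The Euler derivation scales a monomial by its degree. -/
theorem euler_monomial (s : σ →₀ ℕ) (a : R) : euler R σ (monomial s a) = s.degree • monomial s a := by
  classical
  rw [euler, mkDerivation_monomial, Finsupp.sum, Finset.smul_sum, Finsupp.degree_apply, Finset.sum_smul]
  refine Finset.sum_congr rfl fun i hi => ?_
  have h1 : s - Finsupp.single i 1 + Finsupp.single i 1 = s := by
    refine tsub_add_cancel_of_le ?_
    rw [Finsupp.single_le_iff]
    exact Nat.one_le_iff_ne_zero.2 (Finsupp.mem_support_iff.1 hi)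
  rw [X, smul_eq_mul, monomial_mul, h1, mul_one, smul_monomial, smul_eq_mul, mul_comm a,
    ← map_nsmul, nsmul_eq_mul]

variable [Algebra ℚ R]

/-- The algebraic Poincaré lemma in positive degrees. -/
theorem cocycles_le_coboundaries
    (d : ∀ p : ℕ, ↥(⋀[MvPolynomial σ R]^p (Ω[MvPolynomial σ R⁄R])) →ₗ[R]
      ↥(⋀[MvPolynomial σ R]^(p + 1) (Ω[MvPolynomial σ R⁄R])))
    (hd : DeRham.IsDiff (KaehlerDifferential.D R (MvPolynomial σ R)) d) (p : ℕ) :
    DeRham.cocycles d (p + 1) ≤ DeRham.coboundaries d (p + 1) := by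
  classical
  set A := MvPolynomial σ R
  set δ := KaehlerDifferential.D R A with hδ
  let φ : Ω[A⁄R] →ₗ[A] A := (euler R σ).liftKaehlerDifferential
  have hφ : ∀ (s : σ →₀ ℕ) (a : R), φ (δ (monomial s a)) = s.degree • monomial s a := fun s a =>
    (Derivation.liftKaehlerDifferential_comp_D _ _).trans (euler_monomial s a)
  let ι' := fun n => (Synt29.Lie.contr φ n).restrictScalars R
  let L : Module.End R ↥(⋀[A]^(p + 1) (Ω[A⁄R])) := ι' (p + 1) ∘ₗ d (p + 1) + d p ∘ₗ ι' p
  let P : ↥(⋀[A]^(p + 1) (Ω[A⁄R])) → Prop := fun z => ∃ N, Synt29.Lie.kill L N z = 0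
  have hP0 : P 0 := ⟨0, by simp⟩
  have hPadd : ∀ z w, P z → P w → P (z + w) := by
    rintro z w ⟨N, hN⟩ ⟨M, hM⟩
    refine ⟨max N M, ?_⟩
    rw [map_add, Synt29.Lie.kill_mono _ _ (le_max_left N M) hN,
      Synt29.Lie.kill_mono _ _ (le_max_right N M) hM, add_zero]
  have hPgen : ∀ (s₀ : σ →₀ ℕ) (a₀ : R) (s : Fin (p + 1) → σ →₀ ℕ) (a : Fin (p + 1) → R),
      P (DeRham.gen δ (p + 1) (monomial s₀ a₀) fun j => monomial (s j) (a j)) := by
    intro s₀ a₀ s a
    by_cases h0 : s 0 = 0
    · refine ⟨0, ?_⟩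
      rw [DeRham.gen, AlternatingMap.map_coord_zero (m := fun j => _) _ 0 (by
        rw [h0, monomial_zero', ← algebraMap_eq]; exact δ.map_algebraMap _), smul_zero, map_zero]
    · obtain ⟨t, ht⟩ : ∃ t, s₀.degree + ∑ j, (s j).degree = t + 1 := Nat.exists_eq_succ_of_ne_zero fun h => h0 (by
        have h' := Finset.sum_eq_zero_iff.1 (show ∑ j, (s j).degree = 0 by omega) 0 (Finset.mem_univ 0)
        exact (Finsupp.degree_eq_zero_iff _).1 h')
      refine ⟨t + 1, Synt29.Lie.kill_eq_zero_of_eigen _ _ t ?_⟩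
      rw [← ht]
      exact Synt29.Lie.lie_gen hd φ p _ _ _ _ (hφ s₀ a₀) fun j => hφ (s j) (a j)
  have hS : Submodule.span A {ω | ∃ (s : σ →₀ ℕ) (a : R), δ (monomial s a) = ω} = ⊤ := by
    rw [eq_top_iff, ← KaehlerDifferential.span_range_derivation R A, Submodule.span_le]
    rintro _ ⟨f, rfl⟩
    show δ f ∈ _
    induction f using MvPolynomial.induction_on' with
    | monomial s a => exact Submodule.subset_span ⟨s, a, rfl⟩
    | add p q hp hq => rw [map_add]; exact add_mem hp hq
  have hPall : ∀ z, P z := by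
    have key : ∀ z, ∀ f : A, P (f • z) := by
      intro z
      have hz : z ∈ Submodule.span A (exteriorPower.ιMulti A (p + 1) ''
          {v | Set.range v ⊆ {ω | ∃ (s : σ →₀ ℕ) (a : R), δ (monomial s a) = ω}}) := by
        rw [exteriorPower.ιMulti_span_of_span A (p + 1) (Ω[A⁄R]) hS]
        trivial
      induction hz using Submodule.span_induction with
      | mem _ h =>
        obtain ⟨v, hv, rfl⟩ := h
        choose s a hsa using fun j => hv (Set.mem_range_self j)
        intro f
        induction f using MvPolynomial.induction_on' with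
        | monomial s₀ a₀ =>
          have := hPgen s₀ a₀ s a
          simpa only [DeRham.gen, hsa] using this
        | add p q hp hq => rw [add_smul]; exact hPadd _ _ hp hq
      | zero => intro f; rw [smul_zero]; exact hP0
      | add z w _ _ hz hw => intro f; rw [smul_add]; exact hPadd _ _ (hz f) (hw f)
      | smul c z _ hz => intro f; rw [smul_smul]; exact hz _
    intro z
    simpa using key z 1
  intro y hy
  obtain ⟨N, hN⟩ := hPall y
  refine Synt29.Lie.mem_of_kill L (DeRham.cocycles d (p + 1)) (DeRham.coboundaries d (p + 1)) ?_ ?_ N y hy hN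
  · intro z hz
    have hz0 : d (p + 1) z = 0 := hz
    show ι' (p + 1) (d (p + 1) z) + d p (ι' p z) ∈ _
    rw [hz0, map_zero, zero_add]
    exact ⟨ι' p z, rfl⟩
  · intro z hz
    have hz0 : d (p + 1) z = 0 := hz
    show d (p + 1) (ι' (p + 1) (d (p + 1) z) + d p (ι' p z)) = 0
    rw [hz0, map_zero, zero_add]
    exact LinearMap.congr_fun (hd.2 p) _

/-- A closed function is a constant. -/
theorem exists_of_d_zero
    (d : ∀ p : ℕ, ↥(⋀[MvPolynomial σ R]^p (Ω[MvPolynomial σ R⁄R])) →ₗ[R]
      ↥(⋀[MvPolynomial σ R]^(p + 1) (Ω[MvPolynomial σ R⁄R])))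
    (hd : DeRham.IsDiff (KaehlerDifferential.D R (MvPolynomial σ R)) d)
    (z : ↥(⋀[MvPolynomial σ R]^0 (Ω[MvPolynomial σ R⁄R]))) (hz : d 0 z = 0) :
    ∃ a : R, exteriorPower.zeroEquiv (MvPolynomial σ R) (Ω[MvPolynomial σ R⁄R]) z = C a := by
  classical
  set A := MvPolynomial σ R
  set δ := KaehlerDifferential.D R A
  let e := exteriorPower.zeroEquiv A (Ω[A⁄R])
  let φ : Ω[A⁄R] →ₗ[A] A := (euler R σ).liftKaehlerDifferential
  have key : ∀ w, e (Synt29.Lie.contr φ 0 (d 0 w)) = euler R σ (e w) := fun w =>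
    Synt29.DRGen.gen_induction δ (KaehlerDifferential.span_range_derivation R A)
      (P := fun w => e (Synt29.Lie.contr φ 0 (d 0 w)) = euler R σ (e w)) (by simp only [map_zero])
      (fun x y hx hy => by simp only [map_add, hx, hy])
      (fun b₀ b => by
        rw [hd.1, Synt29.Lie.contr_ιMulti, Fin.sum_univ_one]
        simp [e, DeRham.gen, φ, Fin.removeNth_zero, δ]
        exact Derivation.liftKaehlerDifferential_comp_D _ _) w
  have h0 : euler R σ (e z) = 0 := by rw [← key, hz, map_zero, map_zero]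
  refine ⟨coeff 0 (e z), ?_⟩
  have hc : ∀ (f : A) (m : σ →₀ ℕ), coeff m (euler R σ f) = m.degree • coeff m f := fun f m => by
    induction f using MvPolynomial.induction_on' with
    | monomial s a =>
      rw [euler_monomial, coeff_smul, coeff_monomial]
      split_ifs with h
      · rw [h]
      · simp
    | add p q hp hq => rw [map_add, coeff_add, coeff_add, hp, hq, smul_add]
  ext m
  rw [coeff_C]
  split_ifs with h
  · rw [← h]
  · have := hc (e z) m
    rw [h0, coeff_zero] at this
    obtain ⟨t, ht⟩ := Nat.exists_eq_succ_of_ne_zero fun hh => h ((Finsupp.degree_eq_zero_iff _).1 hh).symm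
    rw [ht] at this
    have hu : algebraMap ℚ R ((t + 1 : ℕ) : ℚ)⁻¹ * ((t + 1 : ℕ) : R) = 1 := by
      rw [← map_natCast (algebraMap ℚ R), ← map_mul, inv_mul_cancel₀ (Nat.cast_ne_zero.2 (by omega)), map_one]
    show coeff m (e z) = 0
    calc coeff m (e z) = (algebraMap ℚ R ((t + 1 : ℕ) : ℚ)⁻¹ * ((t + 1 : ℕ) : R)) * coeff m (e z) := by
          rw [hu, one_mul]
      _ = 0 := by rw [mul_assoc, ← nsmul_eq_mul, ← this, mul_zero]

end Groth.Agent.H6DR
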